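import Groth.Agent.CdOneLib.ColimH
import Groth.Agent.EtShLib.ConstSheaf
import Groth.Prelude.Def_EtCore
import Mathlib.GroupTheory.SpecificGroups.Cyclic

/-!
# Cohomology of constant sheaves with torsion values from that of `ℤ/n`
-/

set_option autoImplicit false
set_option linter.unusedSectionVars false
set_option linter.style.haveILetI false
set_option backward.isDefEq.respectTransparency false
set_option backward.isDefEq.respectTransparency.types false
set_option synthInstance.maxHeartbeats 400000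
set_option maxHeartbeats 1000000

universe u

open CategoryTheory CategoryTheory.Limits CategoryTheory.Abelian AlgebraicGeometry Opposite
open Groth.Agent.EtShLib

noncomputable section

namespace ConstHLib

variable (X : Scheme.{u})

/-- The constant sheaf functor. -/
abbrev cS : AddCommGrpCat.{u + 1} ⥤ EtCoh.Ab X := constantSheaf X.smallEtaleTopology AddCommGrpCat.{u + 1}

/-- The group of integers in the big universe. -/
abbrev Zu : AddCommGrpCat.{u + 1} := AddCommGrpCat.of (ULift.{u + 1} ℤ)

instance : (cS X).Additive := by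
  haveI : (EtCore.gsec X).Additive := ⟨fun {X Y f g} => rfl⟩
  exact (EtCore.constAdj X).left_adjoint_additive

instance : PreservesFiniteLimits (cS X) :=
  @comp_preservesFiniteLimits _ _ _ _ _ _ (Functor.const _) (presheafToSheaf _ _) inferInstance inferInstance

instance : PreservesColimitsOfSize.{u + 1, u + 1} (cS X) := (EtCore.constAdj X).leftAdjoint_preservesColimits

instance : PreservesFiniteColimits (cS X) :=
  have : PreservesColimitsOfSize.{0, 0} (cS X) := (EtCore.constAdj X).leftAdjoint_preservesColimits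
  PreservesColimitsOfSize.preservesFiniteColimits _

/-- The morphism out of the integers with value `m` at one. -/
def elemHom {M : AddCommGrpCat.{u + 1}} (m : M) : Zu ⟶ M :=
  AddCommGrpCat.ofHom ((zmultiplesHom _ m).comp AddEquiv.ulift.toAddMonoidHom)

theorem elemHom_one {M : AddCommGrpCat.{u + 1}} (m : M) : elemHom m (ULift.up 1) = m := one_zsmul m

theorem hom_ext_one {M : AddCommGrpCat.{u + 1}} {f g : Zu ⟶ M} (h : f (ULift.up 1) = g (ULift.up 1)) : f = g := by
  ext n
  have hn : n = n.down • (ULift.up 1 : ULift.{u + 1} ℤ) := ULift.ext _ _ (by simp)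
  rw [hn, map_zsmul, map_zsmul]
  exact congrArg (n.down • ·) h

/-- Degree zero: constant sections are the only ones. -/
def Bij0 (M : AddCommGrpCat.{u + 1}) : Prop :=
  Function.Bijective fun f : Zu ⟶ M => (cS X).map f

/-- Positive degree cohomology vanishes. -/
def Van (M : AddCommGrpCat.{u + 1}) : Prop :=
  ∀ q : ℕ, Subsingleton (EtCoh.H X ((cS X).obj M) (q + 1))

/-- The cohomology of the constant sheaf is that of a point. -/
def Good (M : AddCommGrpCat.{u + 1}) : Prop := Bij0 X M ∧ Van X M

theorem good_of_iso {M N : AddCommGrpCat.{u + 1}} (e : M ≅ N) (h : Good X M) : Good X N := by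
  refine ⟨⟨fun f g hfg => ?_, fun α => ?_⟩, fun q => ?_⟩
  · refine (cancel_mono e.inv).1 (h.1.1 ?_)
    show (cS X).map _ = (cS X).map _
    rw [Functor.map_comp, Functor.map_comp]
    exact congrArg (· ≫ (cS X).map e.inv) hfg
  · obtain ⟨f, hf⟩ := h.1.2 (α ≫ (cS X).map e.inv)
    exact ⟨f ≫ e.hom, by
      show (cS X).map _ = α
      rw [Functor.map_comp, show (cS X).map f = α ≫ (cS X).map e.inv from hf, Category.assoc, ← Functor.map_comp, e.inv_hom_id, CategoryTheory.Functor.map_id,
        Category.comp_id]⟩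
  · haveI := h.2 q
    haveI : Subsingleton ((EtCoh.HF X (q + 1)).obj ((cS X).obj M)) := h.2 q
    exact (((EtCoh.HF X (q + 1)).mapIso ((cS X).mapIso e)).addCommGroupIsoToAddEquiv).toEquiv.symm.subsingleton

theorem good_ext {S : ShortComplex AddCommGrpCat.{u + 1}} (hS : S.ShortExact) (h1 : Good X S.X₁)
    (h3 : Good X S.X₃) : Good X S.X₂ := by
  haveI := hS.mono_f
  haveI := hS.epi_g
  have hS' := hS.map_of_exact (cS X)
  haveI := hS'.mono_f
  refine ⟨⟨fun f g hfg => ?_, fun α => ?_⟩, fun q => ?_⟩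
  · have hd : (cS X).map (f - g) = 0 := by rw [Functor.map_sub]; exact sub_eq_zero.2 hfg
    have h0 : (f - g) ≫ S.g = 0 := h3.1.1 (show (cS X).map _ = (cS X).map 0 by
      rw [Functor.map_comp, hd, zero_comp, Functor.map_zero])
    have h2 : (cS X).map (hS.exact.lift (f - g) h0) = (cS X).map 0 := by
      rw [Functor.map_zero, ← cancel_mono (S.map (cS X)).f, zero_comp]
      show (cS X).map _ ≫ (cS X).map S.f = 0
      rw [← Functor.map_comp, hS.exact.lift_f, hd]
    have := hS.exact.lift_f (f - g) h0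
    rw [h1.1.1 h2, zero_comp] at this
    exact sub_eq_zero.1 this.symm
  · obtain ⟨b, hb⟩ := h3.1.2 (α ≫ (cS X).map S.g)
    obtain ⟨m, hm⟩ := (AddCommGrpCat.epi_iff_surjective S.g).1 inferInstance (b (ULift.up 1))
    have hmb : elemHom m ≫ S.g = b := hom_ext_one (by
      show S.g (elemHom m (ULift.up 1)) = _
      rw [elemHom_one, hm])
    have h0 : (α - (cS X).map (elemHom m)) ≫ (S.map (cS X)).g = 0 := by
      show (α - (cS X).map (elemHom m)) ≫ (cS X).map S.g = 0
      rw [Preadditive.sub_comp, ← Functor.map_comp, hmb]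
      exact sub_eq_zero.2 hb.symm
    obtain ⟨a, ha⟩ := h1.1.2 (hS'.exact.lift _ h0)
    refine ⟨a ≫ S.f + elemHom m, ?_⟩
    show (cS X).map _ = α
    have hl := hS'.exact.lift_f _ h0
    rw [← ha] at hl
    rw [Functor.map_add, Functor.map_comp]
    exact (congrArg (· + (cS X).map (elemHom m)) hl).trans (sub_add_cancel _ _)
  · haveI := h1.2 q
    haveI := h3.2 q
    refine subsingleton_of_forall_eq 0 fun x => ?_
    obtain ⟨y, rfl⟩ := Ext.covariant_sequence_exact₂ _ hS' x (@Subsingleton.elim _ (h3.2 q) _ _)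
    rw [@Subsingleton.elim _ (h1.2 q) y 0, Ext.zero_comp]

theorem injective_map [Nonempty X] (M : AddCommGrpCat.{u + 1}) :
    Function.Injective fun f : Zu ⟶ M => (cS X).map f := fun f g h => by
  obtain ⟨x⟩ := ‹Nonempty X›
  obtain ⟨Ω, _, _, ξ, v, -⟩ := exists_geometric (U := EtCoh.top X) x
  haveI := isCst_cstUnit M Ω ξ v
  haveI : Mono (cstUnit X M) := mono_of_mono _ (germ ξ _ _ v)
  rw [← cancel_mono (cstUnit X M), ← cstUnit_naturality, ← cstUnit_naturality]
  exact congrArg (fun t : (cS X).obj Zu ⟶ (cS X).obj M => cstUnit X Zu ≫ t.hom.app (op (EtCoh.top X))) h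

theorem good_zmod [Nonempty X] (n : ℕ) [NeZero n]
    (h : ∀ q : ℕ, 0 < q → Subsingleton (EtCoh.H X (EtCoh.const X (ZMod n)) q))
    (e : EtCoh.H X (EtCoh.const X (ZMod n)) 0 ≃+ ZMod n) :
    Good X (AddCommGrpCat.of (ULift.{u + 1} (ZMod n))) := by
  refine ⟨?_, fun q => h (q + 1) q.succ_pos⟩
  let M := AddCommGrpCat.of (ULift.{u + 1} (ZMod n))
  let a : (Zu ⟶ M) ≃ ZMod n :=
    { toFun := fun f => (f (ULift.up 1)).down
      invFun := fun z => elemHom (M := M) (ULift.up z)
      left_inv := fun f => hom_ext_one (elemHom_one _)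
      right_inv := fun z => congrArg ULift.down (elemHom_one (M := M) (ULift.up z)) }
  let b : ((cS X).obj Zu ⟶ (cS X).obj M) ≃ ZMod n := Ext.addEquiv₀.symm.toEquiv.trans e.toEquiv
  have hinj : Function.Injective fun z => b ((cS X).map (a.symm z)) :=
    b.injective.comp ((injective_map X M).comp a.symm.injective)
  have hb := Finite.surjective_of_injective hinj
  refine ⟨injective_map X M, fun α => ?_⟩
  obtain ⟨z, hz⟩ := hb (b α)
  exact ⟨a.symm z, b.injective hz⟩

variable {ok : ℕ → Prop}

theorem good_of_finite (hdvd : ∀ a b : ℕ, ok b → a ∣ b → ok a)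
    (hz : ∀ n : ℕ, 0 < n → ok n → Good X (AddCommGrpCat.of (ULift.{u + 1} (ZMod n)))) :
    ∀ (N : ℕ) (M : Type (u + 1)) [AddCommGroup M] [Finite M], Nat.card M = N →
      (∀ m : M, ∃ n : ℕ, 0 < n ∧ ok n ∧ n • m = 0) → Good X (AddCommGrpCat.of M) := by
  intro N
  induction N using Nat.strong_induction_on with
  | _ N ih =>
    intro M _ _ hN htor
    classical
    obtain ⟨n₀, hn₀, hok₀, -⟩ := htor 0
    by_cases hM : Subsingleton M
    · haveI : Subsingleton (ULift.{u + 1} (ZMod 1)) := inferInstance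
      refine good_of_iso X (AddEquiv.toAddCommGrpIso ?_) (hz 1 one_pos (hdvd 1 n₀ hok₀ (one_dvd _)))
      exact AddEquiv.ofBijective (0 : ULift.{u + 1} (ZMod 1) →+ M)
        ⟨fun a b _ => Subsingleton.elim _ _, fun m => ⟨0, Subsingleton.elim _ _⟩⟩
    · rw [not_subsingleton_iff_nontrivial] at hM
      obtain ⟨a, ha⟩ := exists_ne (0 : M)
      obtain ⟨n, hn, hok, hna⟩ := htor a
      have hd : addOrderOf a ∣ n := addOrderOf_dvd_of_nsmul_eq_zero hna
      have hd0 : 0 < addOrderOf a := Nat.pos_of_dvd_of_pos hd hn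
      let A := AddSubgroup.zmultiples a
      have hcard : Nat.card A = addOrderOf a := Nat.card_zmultiples a
      let eA : ULift.{u + 1} (ZMod (addOrderOf a)) ≃+ A :=
        AddEquiv.ulift.trans (hcard ▸ zmodAddCyclicAddEquiv (G := A) inferInstance)
      have h1 : Good X (AddCommGrpCat.of A) :=
        good_of_iso X eA.toAddCommGrpIso (hz _ hd0 (hdvd _ _ hok hd))
      have hlt : Nat.card (M ⧸ A) < N := by
        have h2 := AddSubgroup.card_eq_card_quotient_mul_card_addSubgroup A
        have h3 : 1 < Nat.card A := by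
          rw [hcard]
          exact lt_of_le_of_ne hd0 fun h => ha (AddMonoid.addOrderOf_eq_one_iff.1 h.symm)
        have h4 : 0 < Nat.card (M ⧸ A) := Nat.card_pos
        nlinarith
      have h3 : Good X (AddCommGrpCat.of (M ⧸ A)) := ih _ hlt (M ⧸ A) rfl fun m => by
        obtain ⟨m, rfl⟩ := QuotientAddGroup.mk'_surjective A m
        obtain ⟨k, hk, hk', hkm⟩ := htor m
        exact ⟨k, hk, hk', by rw [← map_nsmul, hkm, map_zero]⟩
      let S : ShortComplex AddCommGrpCat.{u + 1} :=
        ShortComplex.mk (X₁ := AddCommGrpCat.of A) (X₂ := AddCommGrpCat.of M) (X₃ := AddCommGrpCat.of (M ⧸ A))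
          (AddCommGrpCat.ofHom A.subtype) (AddCommGrpCat.ofHom (QuotientAddGroup.mk' A)) (by
            ext z
            exact (QuotientAddGroup.eq_zero_iff _).2 z.2)
      refine good_ext X (S := S) ?_ h1 h3
      exact
        { exact := (ShortComplex.ab_exact_iff S).2 fun z hz => ⟨⟨z, (QuotientAddGroup.eq_zero_iff _).1 hz⟩, rfl⟩
          mono_f := (AddCommGrpCat.mono_iff_injective _).2 Subtype.coe_injective
          epi_g := (AddCommGrpCat.epi_iff_surjective _).2 (QuotientAddGroup.mk'_surjective A) }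

theorem good_of_torsion [CompactSpace X] [QuasiSeparatedSpace X] [Nonempty X]
    (hdvd : ∀ a b : ℕ, ok b → a ∣ b → ok a)
    (hz : ∀ n : ℕ, 0 < n → ok n → Good X (AddCommGrpCat.of (ULift.{u + 1} (ZMod n))))
    (M : AddCommGrpCat.{u + 1}) (htor : ∀ m : M, ∃ n : ℕ, 0 < n ∧ ok n ∧ n • m = 0) : Good X M := by
  classical
  let D : Finset M ⥤ AddCommGrpCat.{u + 1} :=
    { obj := fun s => AddCommGrpCat.of (AddSubgroup.closure (s : Set M))
      map := fun h => AddCommGrpCat.ofHom (AddSubgroup.inclusion (AddSubgroup.closure_mono (by exact_mod_cast leOfHom h)))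
      map_id := fun _ => rfl
      map_comp := fun _ _ => rfl }
  let c : Cocone D :=
    { pt := M
      ι := { app := fun s => AddCommGrpCat.ofHom (AddSubgroup.closure (s : Set M)).subtype
             naturality := fun _ _ _ => rfl } }
  let φ := colimit.desc D c
  haveI : IsIso φ := by
    rw [← isIso_iff_of_reflects_iso _ (forget AddCommGrpCat.{u + 1}), isIso_iff_bijective]
    refine ⟨(injective_iff_map_eq_zero φ.hom).2 fun x hx => ?_, fun m => ?_⟩
    · obtain ⟨s, y, rfl⟩ := Concrete.colimit_exists_rep D x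
      have h1 : c.ι.app s y = 0 := (ConcreteCategory.congr_hom (colimit.ι_desc c s) y).symm.trans hx
      rw [show y = 0 from Subtype.ext h1]
      exact map_zero _
    · refine ⟨colimit.ι D {m} ⟨m, AddSubgroup.subset_closure (by simp)⟩, ?_⟩
      exact ConcreteCategory.congr_hom (colimit.ι_desc c {m}) _
  have hgood : ∀ s, Good X (D.obj s) := fun s => by
    let A := AddSubgroup.closure (s : Set M)
    haveI : AddGroup.FG A := (AddGroup.fg_iff_addSubgroup_fg A).2 ⟨s, rfl⟩
    haveI : Finite A := AddCommGroup.finite_of_fg_isAddTorsion A fun a => by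
      obtain ⟨n, hn, -, hna⟩ := htor a.1
      exact isOfFinAddOrder_iff_nsmul_eq_zero.2 ⟨n, hn, Subtype.ext hna⟩
    exact good_of_finite X hdvd hz _ A rfl fun a => by
      obtain ⟨n, hn, hn', hna⟩ := htor a.1
      exact ⟨n, hn, hn', Subtype.ext hna⟩
  refine good_of_iso X (asIso φ) ⟨⟨injective_map X _, fun α => ?_⟩, fun q => ?_⟩
  · haveI := Groth.Agent.CdOneLib.preservesFilteredColimits_H (X := X) 0 (Finset M)
    let hc := isColimitOfPreserves (cS X ⋙ EtCoh.HF X 0) (colimit.isColimit D)
    obtain ⟨s, y, hy⟩ := Concrete.isColimit_exists_rep _ hc (Ext.mk₀ α)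
    obtain ⟨β, rfl⟩ := (Ext.mk₀_bijective _ _).2 y
    obtain ⟨b, rfl⟩ := (hgood s).1.2 β
    refine ⟨b ≫ colimit.ι D s, (Ext.mk₀_bijective _ _).1 ?_⟩
    rw [← hy]
    show Ext.mk₀ ((cS X).map (b ≫ colimit.ι D s)) = (Ext.mk₀ ((cS X).map b)).comp (Ext.mk₀ ((cS X).map (colimit.ι D s))) (add_zero 0)
    rw [Ext.mk₀_comp_mk₀, Functor.map_comp]
  · haveI := Groth.Agent.CdOneLib.preservesFilteredColimits_H (X := X) (q + 1) (Finset M)
    let hc := isColimitOfPreserves (cS X ⋙ EtCoh.HF X (q + 1)) (colimit.isColimit D)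
    refine subsingleton_of_forall_eq 0 fun x => ?_
    obtain ⟨s, y, hy⟩ := Concrete.isColimit_exists_rep _ hc x
    have hy0 : y = 0 := @Subsingleton.elim _ ((hgood s).2 q) _ _
    rw [← hy, hy0]
    exact map_zero _

end ConstHLib
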