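import Groth.Agent.ConstHLib.Basic
import Groth.Agent.EtShLib.StrictLocal
import Groth.Agent.EtShLib.LocConst
import Groth.Agent.EtAcycLib.Chase

/-!
# Locally constant sheaves on strictly henselian local schemes and their pullbacks
-/

set_option autoImplicit false
set_option linter.unusedSectionVars false
set_option linter.style.haveILetI false
set_option backward.isDefEq.respectTransparency false
set_option backward.isDefEq.respectTransparency.types false
set_option synthInstance.maxHeartbeats 400000
set_option maxHeartbeats 1000000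

universe u

open CategoryTheory CategoryTheory.Limits CategoryTheory.Abelian AlgebraicGeometry Opposite
open Groth.Agent.EtShLib

noncomputable section

namespace ConstHLib

variable {R : Type u} [CommRing R] [HenselianLocalRing R] [IsSepClosed (IsLocalRing.ResidueField R)]

theorem unit_eq_cstUnit {X : Scheme.{u}} (M : AddCommGrpCat.{u + 1}) :
    (constantSheafAdj X.smallEtaleTopology AddCommGrpCat.{u + 1} (EtCore.topIsTerminal X)).unit.app M =
      cstUnit X M := by
  simp [constantSheafAdj, cstUnit]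

/-- A locally constant sheaf on a strictly henselian local scheme is constant, with value its stalk. -/
theorem exists_iso_const {G : EtCoh.Ab (Spec (CommRingCat.of R))} (hG : EtRest.IsLocallyConstant G) :
    Nonempty (G ≅ (cS _).obj ((stk (A := AddCommGrpCat.{u + 1}) (closedPt R)).obj G)) := by
  let X := Spec (CommRingCat.of R)
  let T := EtCoh.top X
  obtain ⟨U, y, M, η, hy, -, hη⟩ := (isLC_iff G).1 hG (IsLocalRing.closedPoint R)
  haveI : AlgebraicGeometry.Etale U.hom := U.prop
  obtain ⟨l, hl, -⟩ := Scheme.exists_fac_of_etale_of_isSepClosed U.hom (closedPt R) y (hy.trans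
    (SubmDescLib.closedPoint_map (IsLocalRing.residue R) IsLocalRing.residue_surjective _).symm)
  let v : Fib (closedPt R) U := Fib.mk l hl
  obtain ⟨σ, -⟩ := exists_section_fib R U v
  let η' := η ≫ G.obj.map σ.op
  have hη' : IsCst G T η' := hη.map σ
  haveI : IsIso (germ (A := AddCommGrpCat.{u + 1}) (closedPt R) G T (topPt R)) := by
    rw [← isIso_iff_of_reflects_iso _ (forget AddCommGrpCat.{u + 1}), isIso_iff_bijective]
    exact bijective_germ_top R G
  haveI := hη' (IsLocalRing.ResidueField R) (closedPt R) (topPt R)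
  let adj := constantSheafAdj X.smallEtaleTopology AddCommGrpCat.{u + 1} (EtCore.topIsTerminal X)
  let φ : (cS X).obj M ⟶ G := (adj.homEquiv M G).symm η'
  have hφ : cstUnit X M ≫ φ.hom.app (op T) = η' := by
    have h1 : adj.homEquiv M G φ = η' := Equiv.apply_symm_apply _ _
    rw [← h1, Adjunction.homEquiv_unit, unit_eq_cstUnit]
    rfl
  haveI : IsIso φ := isIso_of_stalks φ fun Ω _ _ ξ => by
    let w : Fib ξ T := Fib.mk ξ (Category.comp_id _)
    haveI := isCst_cstUnit M Ω ξ w
    haveI := hη' Ω ξ w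
    have h2 : (cstUnit X M ≫ germ ξ _ T w) ≫ (stk ξ).map φ = η' ≫ germ ξ G T w := by
      rw [Category.assoc, germ_natural, ← Category.assoc, hφ]
    haveI : IsIso ((cstUnit X M ≫ germ ξ _ T w) ≫ (stk ξ).map φ) := by rw [h2]; infer_instance
    exact IsIso.of_isIso_comp_left (cstUnit X M ≫ germ ξ _ T w) _
  exact ⟨(asIso φ).symm ≪≫ (cS X).mapIso (asIso (η' ≫ germ (closedPt R) G T (topPt R)))⟩

/-- Pullback to a scheme with the cohomology of a point. -/
theorem bijective_Hpull {Y : Scheme.{u}} [Nonempty Y] (g : Y ⟶ Spec (CommRingCat.of R))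
    [PreservesFiniteLimits (EtCoh.pull g)] {G : EtCoh.Ab (Spec (CommRingCat.of R))} {M : AddCommGrpCat.{u + 1}}
    (e : G ≅ (cS _).obj M) (hY : Good Y M) (q : ℕ) :
    Function.Bijective (EtCore.Hpull g G q) := by
  let X := Spec (CommRingCat.of R)
  haveI : Nonempty X := ⟨IsLocalRing.closedPoint R⟩
  let i : (EtCoh.pull g).obj G ≅ (cS Y).obj M := (EtCoh.pull g).mapIso e ≪≫ (EtCore.pullConstIso g).app M
  cases q with
  | succ q =>
    haveI : Subsingleton ((EtCoh.HF Y (q + 1)).obj ((cS Y).obj M)) := hY.2 q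
    haveI : Subsingleton ((EtCoh.HF Y (q + 1)).obj ((EtCoh.pull g).obj G)) :=
      ((EtCoh.HF Y (q + 1)).mapIso i).addCommGroupIsoToAddEquiv.toEquiv.subsingleton
    haveI := subsingleton_H R G (q + 1) q.succ_pos
    exact ⟨fun a b _ => Subsingleton.elim a b,
      fun b => ⟨0, @Subsingleton.elim ((EtCoh.HF Y (q + 1)).obj ((EtCoh.pull g).obj G)) _ _ _⟩⟩
  | zero =>
    have key : ∀ f : Zu ⟶ M, EtCore.Hpull g G 0 (Ext.mk₀ ((cS X).map f ≫ e.inv)) =
        Ext.mk₀ ((cS Y).map f ≫ i.inv) := fun f => by
      show (Ext.mk₀ _).comp (Ext.mapExactFunctor (EtCoh.pull g) (Ext.mk₀ _)) (zero_add 0) = _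
      rw [Ext.mapExactFunctor_mk₀, Ext.mk₀_comp_mk₀, Functor.map_comp, ← Category.assoc]
      refine congrArg Ext.mk₀ ?_
      show ((EtCore.pullConstIso g).inv.app Zu ≫ (EtCoh.pull g).map ((cS X).map f)) ≫ _ =
        (cS Y).map f ≫ ((EtCore.pullConstIso g).inv.app M ≫ (EtCoh.pull g).map e.inv)
      rw [← Category.assoc ((cS Y).map f)]
      exact congrArg (· ≫ _) ((EtCore.pullConstIso g).inv.naturality f).symm
    let b : (Zu ⟶ M) → EtCoh.H Y ((EtCoh.pull g).obj G) 0 := fun f => Ext.mk₀ ((cS Y).map f ≫ i.inv)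
    have hb : Function.Bijective b := (Ext.mk₀_bijective _ _).comp
      (((CategoryTheory.Iso.homToEquiv i.symm).bijective).comp hY.1)
    have hX : Function.Surjective fun f : Zu ⟶ M => (cS X).map f := fun α => by
      haveI : IsIso (cstUnit X M) := by
        haveI := isCst_cstUnit (X := X) M (IsLocalRing.ResidueField R) (closedPt R) (topPt R)
        haveI : IsIso (germ (A := AddCommGrpCat.{u + 1}) (closedPt R) ((cS X).obj M) (EtCoh.top X) (topPt R)) := by
          rw [← isIso_iff_of_reflects_iso _ (forget AddCommGrpCat.{u + 1}), isIso_iff_bijective]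
          exact bijective_germ_top R _
        exact IsIso.of_isIso_comp_right _ (germ (A := AddCommGrpCat.{u + 1}) (closedPt R) _ _ (topPt R))
      let adj := constantSheafAdj X.smallEtaleTopology AddCommGrpCat.{u + 1} (EtCore.topIsTerminal X)
      refine ⟨adj.homEquiv Zu _ α ≫ inv (cstUnit X M), (adj.homEquiv Zu _).injective ?_⟩
      rw [Adjunction.homEquiv_unit, Adjunction.homEquiv_unit, unit_eq_cstUnit]
      show cstUnit X Zu ≫ ((cS X).map _).hom.app (op (EtCoh.top X)) = _
      rw [cstUnit_naturality, Category.assoc, IsIso.inv_hom_id, Category.comp_id]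
    refine ⟨fun a c hac => ?_, fun y => ?_⟩
    · obtain ⟨α, rfl⟩ := (Ext.mk₀_bijective _ _).2 a
      obtain ⟨γ, rfl⟩ := (Ext.mk₀_bijective _ _).2 c
      obtain ⟨f, hf⟩ := hX (α ≫ e.hom)
      obtain ⟨f', hf'⟩ := hX (γ ≫ e.hom)
      have ha : α = (cS X).map f ≫ e.inv := by
        rw [show (cS X).map f = α ≫ e.hom from hf, Category.assoc, e.hom_inv_id, Category.comp_id]
      have hc : γ = (cS X).map f' ≫ e.inv := by
        rw [show (cS X).map f' = γ ≫ e.hom from hf', Category.assoc, e.hom_inv_id, Category.comp_id]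
      subst ha hc
      rw [key, key] at hac
      rw [hb.1 hac]
    · obtain ⟨f, rfl⟩ := hb.2 y
      exact ⟨_, key f⟩

end ConstHLib
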